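import Mathlib.Algebra.Homology.SingleHomology
import Mathlib.Algebra.Homology.ShortComplex.PreservesHomology

/-!
A map onto the homology of a complex from a complex concentrated in one degree.
-/

set_option autoImplicit false
set_option backward.isDefEq.respectTransparency false

universe v v' w w'

open CategoryTheory Limits HomologicalComplex

namespace Groth.Agent.PCFppf

variable {C : Type w} [Category.{v} C] [Abelian C] {D : Type w'} [Category.{v'} D] [Abelian D]

/-- Lifts to cycles covering the image of the homology give a map of complexes epi on homology. -/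
theorem exists_single_epi (R : C ⥤ D) [R.Additive] [PreservesFiniteLimits R] [PreservesFiniteColimits R]
    (K : CochainComplex C ℤ) (n : ℤ) {A : D} (σ : A ⟶ R.obj (K.cycles n))
    (hσ : Epi (σ ≫ R.map (K.homologyπ n))) :
    ∃ φ : (single D (ComplexShape.up ℤ) n).obj A ⟶ (R.mapHomologicalComplex (ComplexShape.up ℤ)).obj K,
      Epi (homologyMap φ n) := by
  let RK := (R.mapHomologicalComplex (ComplexShape.up ℤ)).obj K
  have hd : ∀ k, (ComplexShape.up ℤ).Rel n k → (σ ≫ R.map (K.iCycles n)) ≫ RK.d n k = 0 := fun k hk => by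
    change (σ ≫ R.map (K.iCycles n)) ≫ R.map (K.d n k) = 0
    rw [Category.assoc, ← R.map_comp, K.iCycles_d, R.map_zero, comp_zero]
  let φ := mkHomFromSingle (K := RK) (σ ≫ R.map (K.iCycles n)) hd
  refine ⟨φ, ?_⟩
  let e := (K.sc n).mapCyclesIso R
  have he : e.hom ≫ R.map (K.iCycles n) = RK.iCycles n := (K.sc n).mapCyclesIso_hom_iCycles R
  have hπ : RK.homologyπ n ≫ ((K.sc n).mapHomologyIso R).hom = e.hom ≫ R.map (K.homologyπ n) := by
    let hl := (K.sc n).leftHomologyData
    simp only [e]
    rw [hl.mapHomologyIso_eq, hl.mapCyclesIso_eq R]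
    simp only [Iso.trans_hom, Functor.mapIso_hom, Iso.symm_hom]
    change ((K.sc n).map R).homologyπ ≫ (hl.map R).homologyIso.hom ≫ R.map hl.homologyIso.inv = _
    rw [(hl.map R).homologyπ_comp_homologyIso_hom_assoc, Category.assoc]
    change (hl.map R).cyclesIso.hom ≫ R.map hl.π ≫ _ = _
    rw [← R.map_comp, ← R.map_comp, hl.π_comp_homologyIso_inv]
    rfl
  have hc : cyclesMap φ n ≫ e.hom = (singleObjCyclesSelfIso (ComplexShape.up ℤ) n A).hom ≫ σ := by
    haveI : Mono (R.map (K.iCycles n)) := inferInstance
    rw [← cancel_mono (R.map (K.iCycles n)), Category.assoc, he, Category.assoc]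
    change cyclesMap φ n ≫ RK.iCycles n = _
    rw [cyclesMap_i, mkHomFromSingle_f, singleObjCyclesSelfIso_hom]
    simp only [Category.assoc]
  have h1 : Epi (cyclesMap φ n ≫ e.hom ≫ R.map (K.homologyπ n)) := by
    rw [reassoc_of% hc]
    haveI := hσ
    infer_instance
  rw [← hπ, ← homologyπ_naturality_assoc] at h1
  haveI := h1
  haveI := epi_of_epi (((single D (ComplexShape.up ℤ) n).obj A).homologyπ n)
    (homologyMap φ n ≫ ((K.sc n).mapHomologyIso R).hom)
  have := epi_comp (homologyMap φ n ≫ ((K.sc n).mapHomologyIso R).hom) ((K.sc n).mapHomologyIso R).inv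
  rwa [Category.assoc, Iso.hom_inv_id, Category.comp_id] at this

end Groth.Agent.PCFppf
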