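import Groth.Agent.RefStalk.Span
import Groth.Agent.QC.Support
import Groth.Agent.KFlat.Pullback
import Groth.Agent.DerPerf.Local
import Groth.Agent.CohQC.QuasiAffine
import Mathlib.RingTheory.Finiteness.Descent

/-!
Finite type of a module after an fppf pullback gives finitely many generators below.
-/

set_option autoImplicit false
set_option backward.isDefEq.respectTransparency false
set_option backward.isDefEq.respectTransparency.types false
set_option linter.style.haveILetI false
set_option maxHeartbeats 1000000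

universe u

open CategoryTheory CategoryTheory.Limits AlgebraicGeometry TopologicalSpace Opposite
open Groth.Agent.QC (res res_res res_smul resO app_res)
open Groth.Agent.WeakAssLib (mgerm mgerm_smul mgerm_res)
open scoped TensorProduct

noncomputable section

namespace Groth.Agent.PCFppf

variable {X' X : Scheme.{u}}

/-- finite type modules have finite stalks -/
theorem finite_stalk {M : X.Modules} (hM : CohB1.IsFT M) (x : X) :
    Module.Finite (X.presheaf.stalk x) (M.presheaf.stalk x) := by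
  obtain ⟨W, ι, hι, s, hxW, hspan⟩ := RefStalk.exists_spanning_nhd hM x
  exact Module.Finite.of_fg_top ⟨(Set.finite_range (fun i => mgerm M hxW (s i))).toFinset,
    by rw [Set.Finite.coe_toFinset]; exact hspan x hxW⟩

theorem finite_stalk_of_pullback (f : X' ⟶ X) [Flat f] {M : X.Modules}
    (hM : CohB1.IsFT ((Scheme.Modules.pullback f).obj M)) (x' : X') :
    Module.Finite (X.presheaf.stalk (f x')) (M.presheaf.stalk (f x')) := by
  letI : Algebra (X.presheaf.stalk (f x')) (X'.presheaf.stalk x') := (f.stalkMap x').hom.toAlgebra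
  haveI : Module.Flat (X.presheaf.stalk (f x')) (X'.presheaf.stalk x') := Flat.stalkMap f x'
  haveI : IsLocalHom (algebraMap (X.presheaf.stalk (f x')) (X'.presheaf.stalk x')) :=
    inferInstanceAs (IsLocalHom (f.stalkMap x').hom)
  haveI : Module.FaithfullyFlat (X.presheaf.stalk (f x')) (X'.presheaf.stalk x') :=
    Module.FaithfullyFlat.of_flat_of_isLocalHom
  haveI : Module.Finite (X'.presheaf.stalk x') ((Scheme.Modules.pullback f ⋙ DerSch.stalkFunctor X' x').obj M) :=
    finite_stalk hM x'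
  haveI : Module.Finite (X'.presheaf.stalk x') (X'.presheaf.stalk x' ⊗[X.presheaf.stalk (f x')] M.presheaf.stalk (f x')) :=
    Module.Finite.equiv ((KFlat.pullStalkIso f x').app M).toLinearEquiv
  exact Module.Finite.of_finite_tensorProduct_of_faithfullyFlat (X'.presheaf.stalk x')

theorem subsingleton_stalk_of_pullback (f : X' ⟶ X) [Flat f] {Q : X.Modules} (x' : X')
    (h : Subsingleton (((Scheme.Modules.pullback f).obj Q).presheaf.stalk x')) :
    Subsingleton (Q.presheaf.stalk (f x')) := by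
  letI : Algebra (X.presheaf.stalk (f x')) (X'.presheaf.stalk x') := (f.stalkMap x').hom.toAlgebra
  haveI : Module.Flat (X.presheaf.stalk (f x')) (X'.presheaf.stalk x') := Flat.stalkMap f x'
  haveI : IsLocalHom (algebraMap (X.presheaf.stalk (f x')) (X'.presheaf.stalk x')) :=
    inferInstanceAs (IsLocalHom (f.stalkMap x').hom)
  haveI : Module.FaithfullyFlat (X.presheaf.stalk (f x')) (X'.presheaf.stalk x') :=
    Module.FaithfullyFlat.of_flat_of_isLocalHom
  haveI : Subsingleton (X'.presheaf.stalk x' ⊗[X.presheaf.stalk (f x')] Q.presheaf.stalk (f x')) :=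
    ((KFlat.pullStalkIso f x').app Q).toLinearEquiv.toEquiv.subsingleton_congr.1 h
  exact Module.FaithfullyFlat.lTensor_reflects_triviality (X.presheaf.stalk (f x')) (X'.presheaf.stalk x') _

theorem subsingleton_pullback_stalk (f : X' ⟶ X) {Q : X.Modules} (x' : X')
    (h : Subsingleton (Q.presheaf.stalk (f x'))) :
    Subsingleton (((Scheme.Modules.pullback f).obj Q).presheaf.stalk x') := by
  letI : Algebra (X.presheaf.stalk (f x')) (X'.presheaf.stalk x') := (f.stalkMap x').hom.toAlgebra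
  haveI := h
  exact ((KFlat.pullStalkIso f x').app Q).toLinearEquiv.toEquiv.subsingleton_congr.2
    (inferInstance : Subsingleton (X'.presheaf.stalk x' ⊗[X.presheaf.stalk (f x')] Q.presheaf.stalk (f x')))

theorem comp_app_apply {M N P : X.Modules} (φ : M ⟶ N) (ψ : N ⟶ P) (U : X.Opens) (m : Γ(M, U)) :
    (φ ≫ ψ).app U m = ψ.app U (φ.app U m) := rfl

theorem restrict_map_app {U : Scheme.{u}} (j : U ⟶ X) [IsOpenImmersion j] {Z M : X.Modules} (π : Z ⟶ M)
    (P : U.Opens) (w : Γ(Z, j ''ᵁ P)) :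
    ((Scheme.Modules.restrictFunctor j).map π).app P w = π.app (j ''ᵁ P) w := rfl

theorem res_restrict {U : Scheme.{u}} (j : U ⟶ X) [IsOpenImmersion j] (M : X.Modules)
    {P P' : U.Opens} (h : P ≤ P') (w : Γ(M, j ''ᵁ P')) :
    res ((Scheme.Modules.restrictFunctor j).obj M) h w = res M (j.image_mono h) w := rfl

/-- If the images of global sections span a stalk of `M`, the cokernel has zero stalk there. -/
theorem subsingleton_coker_stalk (V : X.Opens) {Z M : X.Modules} (π : Z ⟶ M) (x : V) {k : ℕ}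
    (t : Fin k → Γ(Z, V))
    (h : Submodule.span (X.presheaf.stalk x.1) (Set.range fun i => mgerm M x.2 (π.app V (t i))) = ⊤) :
    ∃ σ : FlatMod.freeMod (V : Scheme.{u}) k ⟶ (Scheme.Modules.restrictFunctor V.ι).obj Z,
      Subsingleton ((cokernel (σ ≫ (Scheme.Modules.restrictFunctor V.ι).map π)).presheaf.stalk x) := by
  let R := Scheme.Modules.restrictFunctor V.ι
  have hle : V.ι ''ᵁ ⊤ ≤ V := V.ι_image_le ⊤
  let σ : FlatMod.freeMod (V : Scheme.{u}) k ⟶ R.obj Z :=
    Sigma.desc fun i => CohQC.secHom (F := R.obj Z) (res Z hle (t i))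
  refine ⟨σ, ⟨fun a b => ?_⟩⟩
  suffices H : ∀ q : (cokernel (σ ≫ R.map π)).presheaf.stalk x, q = 0 from (H a).trans (H b).symm
  intro q
  let c := cokernel.π (σ ≫ R.map π)
  have hsurj : Function.Surjective ((DerSch.stalkFunctor (V : Scheme.{u}) x).map c) :=
    (ModuleCat.epi_iff_surjective _).1 inferInstance
  obtain ⟨m, rfl⟩ := hsurj q
  obtain ⟨P, hP, s, rfl⟩ := TopCat.Presheaf.exists_germ_eq (R.obj M).presheaf m
  have hxP : x.1 ∈ V.ι ''ᵁ P := ⟨x, hP, rfl⟩
  obtain ⟨a, ha⟩ := Submodule.mem_span_range_iff_exists_fun (X.presheaf.stalk x.1) |>.1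
    (h.symm ▸ Submodule.mem_top : mgerm M hxP (show Γ(M, V.ι ''ᵁ P) from s) ∈ _)
  choose Wi hWi r hr using fun i => TopCat.Presheaf.exists_germ_eq X.presheaf (a i)
  let O : X.Opens := (V.ι ''ᵁ P) ⊓ ⟨⋂ i, (Wi i : Set X), isOpen_iInter_of_finite fun i => (Wi i).2⟩
  have hxO : x.1 ∈ O := ⟨hxP, Set.mem_iInter.2 hWi⟩
  have hOP : O ≤ V.ι ''ᵁ P := inf_le_left
  have hOV : O ≤ V := hOP.trans (V.ι_image_le P)
  have hOW : ∀ i, O ≤ Wi i := fun i y hy => Set.mem_iInter.1 hy.2 i
  have hg : mgerm M hxO (res M hOP (show Γ(M, V.ι ''ᵁ P) from s)) =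
      mgerm M hxO (∑ i, resO X (hOW i) (r i) • res M hOV (π.app V (t i))) := by
    rw [mgerm_res, map_sum, ← ha]
    refine Finset.sum_congr rfl fun i _ => ?_
    rw [mgerm_smul, mgerm_res, ← hr i]
    congr 1
    exact (X.presheaf.germ_res_apply _ _ _ _).symm
  obtain ⟨O', hxO', i₁, i₂, hO'⟩ := TopCat.Presheaf.germ_eq M.presheaf x.1 hxO hxO _ _ hg
  let P' : (V : Scheme.{u}).Opens := V.ι ⁻¹ᵁ O'
  have hO'1 : O' ≤ O := i₁.le
  have hP'O : V.ι ''ᵁ P' ≤ O' := by rintro z ⟨z', hz', rfl⟩; exact hz'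
  have hP'P : P' ≤ P := fun z hz => by
    obtain ⟨z', hz', he⟩ := hOP (hO'1 (show V.ι z ∈ O' from hz))
    rwa [← V.ι.isOpenEmbedding.injective he]
  have hxP' : x ∈ P' := hxO'
  change (DerSch.stalkFunctor (V : Scheme.{u}) x).map c ((R.obj M).presheaf.germ P x hP s) = 0
  have h1 : (R.obj M).presheaf.germ P x hP s = mgerm (R.obj M) hxP' (res (R.obj M) hP'P s) :=
    (mgerm_res (R.obj M) hP'P hxP' s).symm
  rw [h1]
  refine (TopCat.Presheaf.stalkFunctor_map_germ_apply _ _ hxP' c.mapPresheaf _).trans ?_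
  suffices h2 : c.app P' (res (R.obj M) hP'P s) = 0 from (congrArg (mgerm _ hxP') h2).trans (map_zero _)
  have h3 : res M hP'O (res M hO'1 (res M hOP (show Γ(M, V.ι ''ᵁ P) from s))) =
      res M hP'O (res M hO'1 (∑ i, resO X (hOW i) (r i) • res M hOV (π.app V (t i)))) :=
    congrArg (res M hP'O) hO'
  rw [res_res, res_res, res_res, map_sum] at h3
  have h4 : res (R.obj M) hP'P s = res M ((hP'O.trans hO'1).trans hOP) (show Γ(M, V.ι ''ᵁ P) from s) := rfl
  rw [h4, h3]
  refine (map_sum (c.app P').hom _ _).trans (Finset.sum_eq_zero fun i _ => ?_)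
  let si : Γ(R.obj M, P') := (σ ≫ R.map π).app P'
    ((Sigma.ι (fun _ : Fin k => Coh.structureModule (V : Scheme.{u})) i).app P' (1 : Γ((V : Scheme.{u}), P')))
  have hsi : si = res M ((hP'O.trans hO'1).trans hOV) (π.app V (t i)) := by
    have e1 : Sigma.ι (fun _ : Fin k => Coh.structureModule (V : Scheme.{u})) i ≫ σ ≫ R.map π =
        CohQC.secHom (F := R.obj Z) (res Z hle (t i)) ≫ R.map π := Sigma.ι_desc_assoc _ _ _
    have e2 : si = (CohQC.secHom (F := R.obj Z) (res Z hle (t i)) ≫ R.map π).app P' (1 : Γ((V : Scheme.{u}), P')) := by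
      simp only [si, ← e1, comp_app_apply]
    rw [e2, comp_app_apply, CohQC.secHom_app_one]
    have e4 := res_restrict V.ι Z (le_top : P' ≤ ⊤) (res Z hle (t i))
    refine (congrArg (fun w => π.app (V.ι ''ᵁ P') w)
      (e4.trans (res_res Z (V.ι.image_mono le_top) hle (t i)))).trans ?_
    exact (app_res π _ (t i)).symm
  have hzero : c.app P' si = 0 := by
    simp only [si, c]
    rw [← comp_app_apply (σ ≫ R.map π) (cokernel.π (σ ≫ R.map π)), cokernel.condition]
    rfl
  rw [res_smul, res_res, ← hsi]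
  let b : Γ((V : Scheme.{u}), P') := (V.ι.appIso P').hom (resO X ((hP'O.trans hO'1)) (resO X (hOW i) (r i)))
  have hb : (V.ι.appIso P').inv b = resO X ((hP'O.trans hO'1)) (resO X (hOW i) (r i)) :=
    congr($((V.ι.appIso P').hom_inv_id).hom _)
  rw [← hb]
  change c.app P' (b • si) = 0
  exact (Scheme.Modules.Hom.app_smul c b si).trans (by rw [hzero, smul_zero])

/-- If a cokernel has a zero stalk at an image point, the map is an epimorphism near it. -/
theorem exists_nhd_epi (g : X' ⟶ X) [Flat g] [LocallyOfFinitePresentation g] {F M : X.Modules} (τ : F ⟶ M)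
    (hM : CohB1.IsFT ((Scheme.Modules.pullback g).obj M)) (x' : X')
    (h : Subsingleton ((cokernel τ).presheaf.stalk (g x'))) :
    ∃ W : X.Opens, g x' ∈ W ∧ Epi ((Scheme.Modules.restrictFunctor W.ι).map τ) := by
  haveI : (Scheme.Modules.pullback g).IsLeftAdjoint :=
    (Scheme.Modules.pullbackPushforwardAdjunction g).isLeftAdjoint
  have hQ : CohB1.IsFT ((Scheme.Modules.pullback g).obj (cokernel τ)) :=
    QC.isFT_of_epi ((Scheme.Modules.pullback g).map (cokernel.π τ)) hM
  have h0 : x' ∉ CohB1.support ((Scheme.Modules.pullback g).obj (cokernel τ)) := fun hx =>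
    hx (subsingleton_pullback_stalk g x' h)
  let O : X'.Opens := ⟨(CohB1.support _)ᶜ, (QC.isClosed_support hQ).isOpen_compl⟩
  let W : X.Opens := ⟨g '' O, g.isOpenMap _ O.2⟩
  refine ⟨W, ⟨x', h0, rfl⟩, ?_⟩
  let R' := Scheme.Modules.restrictFunctor W.ι
  haveI : R'.IsLeftAdjoint :=
    Functor.isLeftAdjoint_of_iso (Scheme.Modules.restrictFunctorIsoPullback W.ι).symm
  have hz : IsZero (R'.obj (cokernel τ)) := KFlat.isZero_of_stalks _ fun w => by
    haveI : Subsingleton ((cokernel τ).presheaf.stalk (W.ι w)) := by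
      obtain ⟨u, hu, he⟩ := w.2
      have := subsingleton_stalk_of_pullback g u (not_not.1 hu)
      rw [he] at this
      exact this
    haveI : Subsingleton ↥((DerSch.stalkFunctor (W : Scheme.{u}) w).obj
        ((Scheme.Modules.pullback W.ι).obj (cokernel τ))) :=
      subsingleton_pullback_stalk W.ι w (Q := cokernel τ) inferInstance
    have : IsZero ((DerSch.stalkFunctor (W : Scheme.{u}) w).obj
        ((Scheme.Modules.pullback W.ι).obj (cokernel τ))) :=
      ModuleCat.isZero_of_subsingleton _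
    exact this.of_iso ((DerSch.stalkFunctor _ w).mapIso ((Scheme.Modules.restrictFunctorIsoPullback W.ι).app _))
  exact Preadditive.epi_of_isZero_cokernel _ (hz.of_iso (PreservesCokernel.iso R' τ).symm)

/-- Changing the free module and composing restrictions. -/
theorem exists_epi_comp {U V : Scheme.{u}} (a : U ⟶ V) (b : V ⟶ X) [IsOpenImmersion a] [IsOpenImmersion b]
    {Z M : X.Modules} (π : Z ⟶ M) {k : ℕ}
    (σ : FlatMod.freeMod V k ⟶ (Scheme.Modules.restrictFunctor b).obj Z)
    (h : Epi ((Scheme.Modules.restrictFunctor a).map (σ ≫ (Scheme.Modules.restrictFunctor b).map π))) :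
    ∃ σ' : FlatMod.freeMod U k ⟶ (Scheme.Modules.restrictFunctor (a ≫ b)).obj Z,
      Epi (σ' ≫ (Scheme.Modules.restrictFunctor (a ≫ b)).map π) := by
  let R := Scheme.Modules.restrictFunctor b
  let R' := Scheme.Modules.restrictFunctor a
  let c := Scheme.Modules.restrictFunctorComp a b
  let e : FlatMod.freeMod U k ≅ R'.obj (FlatMod.freeMod V k) :=
    (DerPerf.pullFreeIso a k).symm ≪≫ ((Scheme.Modules.restrictFunctorIsoPullback a).app _).symm
  refine ⟨e.hom ≫ R'.map σ ≫ c.inv.app Z, ?_⟩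
  have : (e.hom ≫ R'.map σ ≫ c.inv.app Z) ≫ (Scheme.Modules.restrictFunctor (a ≫ b)).map π =
      e.hom ≫ R'.map (σ ≫ R.map π) ≫ c.inv.app M := by
    simp only [Category.assoc, Functor.map_comp]
    rw [← c.inv.naturality π]
    rfl
  rw [this]
  haveI := h
  infer_instance

/-- Global sections through a point where they span. -/
theorem exists_span_nhd (f : X' ⟶ X) [Flat f] {Z M : X.Modules} (π : Z ⟶ M) [Epi π]
    (hM : CohB1.IsFT ((Scheme.Modules.pullback f).obj M)) (x' : X') :
    ∃ (V : X.Opens) (hxV : f x' ∈ V) (k : ℕ)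
      (σ : FlatMod.freeMod (V : Scheme.{u}) k ⟶ (Scheme.Modules.restrictFunctor V.ι).obj Z),
      Subsingleton ((cokernel (σ ≫ (Scheme.Modules.restrictFunctor V.ι).map π)).presheaf.stalk ⟨f x', hxV⟩) := by
  haveI := finite_stalk_of_pullback f hM x'
  obtain ⟨k, m, hm⟩ := Module.Finite.exists_fin (R := X.presheaf.stalk (f x')) (M := M.presheaf.stalk (f x'))
  have hsurj : Function.Surjective ((DerSch.stalkFunctor X (f x')).map π) :=
    (ModuleCat.epi_iff_surjective _).1 inferInstance
  choose z hz using fun i => hsurj (m i)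
  choose Wi hWi s hs using fun i => TopCat.Presheaf.exists_germ_eq Z.presheaf (z i)
  let V : X.Opens := ⟨⋂ i, (Wi i : Set X), isOpen_iInter_of_finite fun i => (Wi i).2⟩
  have hxV : f x' ∈ V := Set.mem_iInter.2 hWi
  have hVW : ∀ i, V ≤ Wi i := fun i y hy => Set.mem_iInter.1 hy i
  have hspan : Submodule.span (X.presheaf.stalk (f x'))
      (Set.range fun i => mgerm M hxV (π.app V (res Z (hVW i) (s i)))) = ⊤ := by
    rw [← hm]
    congr 1
    refine congrArg Set.range (funext fun i => ?_)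
    have h1 : ((DerSch.stalkFunctor X (f x')).map π) (mgerm Z (hWi i) (s i)) =
        mgerm M (hWi i) (π.app (Wi i) (s i)) :=
      TopCat.Presheaf.stalkFunctor_map_germ_apply _ _ (hWi i) π.mapPresheaf _
    rw [← app_res π (hVW i), mgerm_res, ← h1, ← hz i, ← hs i]
  obtain ⟨σ, hσ⟩ := subsingleton_coker_stalk V π ⟨f x', hxV⟩ (fun i => res Z (hVW i) (s i)) hspan
  exact ⟨V, hxV, k, σ, hσ⟩

theorem isFT_pull_restrict (f : X' ⟶ X) (V : X.Opens) {M : X.Modules}
    (hM : CohB1.IsFT ((Scheme.Modules.pullback f).obj M)) :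
    CohB1.IsFT ((Scheme.Modules.pullback (f ∣_ V)).obj ((Scheme.Modules.restrictFunctor V.ι).obj M)) := by
  let e : (Scheme.Modules.restrictFunctor (f ⁻¹ᵁ V).ι).obj ((Scheme.Modules.pullback f).obj M) ≅
      (Scheme.Modules.pullback (f ∣_ V)).obj ((Scheme.Modules.restrictFunctor V.ι).obj M) :=
    (DerPerf.pullRestrictIso f V).app M
  exact QC.isFT_of_epi e.hom (QC.isFT_restrict _ hM)

/-- **Generators descend along fppf coverings.** -/
theorem exists_free_nhd (f : X' ⟶ X) [Flat f] [Surjective f] [LocallyOfFinitePresentation f]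
    {Z M : X.Modules} (π : Z ⟶ M) [Epi π] (hM : CohB1.IsFT ((Scheme.Modules.pullback f).obj M)) (x : X) :
    ∃ (U : Scheme.{u}) (j : U ⟶ X) (_ : IsOpenImmersion j) (u : U) (k : ℕ)
      (σ : FlatMod.freeMod U k ⟶ (Scheme.Modules.restrictFunctor j).obj Z),
      j u = x ∧ Epi (σ ≫ (Scheme.Modules.restrictFunctor j).map π) := by
  obtain ⟨x', rfl⟩ := f.surjective x
  obtain ⟨V, hxV, k, σ, hσ⟩ := exists_span_nhd f π hM x'
  have hMV := isFT_pull_restrict f V hM
  have hgx : (f ∣_ V) (⟨x', hxV⟩ : (f ⁻¹ᵁ V : Scheme.{u})) = ⟨f x', hxV⟩ :=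
    Subtype.ext (by rw [morphismRestrict_base]; rfl)
  obtain ⟨W, hW, hepi⟩ := exists_nhd_epi (f ∣_ V) (σ ≫ (Scheme.Modules.restrictFunctor V.ι).map π) hMV
    ⟨x', hxV⟩ (by rw [hgx]; exact hσ)
  obtain ⟨σ', hσ'⟩ := exists_epi_comp W.ι V.ι π σ hepi
  rw [hgx] at hW
  exact ⟨_, W.ι ≫ V.ι, inferInstance, ⟨⟨f x', hxV⟩, hW⟩, k, σ', rfl, hσ'⟩

end Groth.Agent.PCFppf
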