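import Groth.Agent.PCFppf.Alg
import Groth.Agent.PCFppf.FT
import Groth.Agent.DQCoh.TopCohom
import Groth.Agent.RelPCS.FlatBase
import Groth.Agent.RelPCS.Single

/-!
`m`-pseudo-coherence descends along fppf coverings.
-/

set_option autoImplicit false
set_option backward.isDefEq.respectTransparency false
set_option backward.isDefEq.respectTransparency.types false
set_option linter.style.haveILetI false
set_option maxHeartbeats 1000000

universe u

open CategoryTheory Limits AlgebraicGeometry HomologicalComplex Pretriangulated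

attribute [local instance] HasDerivedCategory.standard

noncomputable section

namespace Groth.Agent.PCFppf

open Groth.Agent.DQCoh Groth.Agent.RelPCS

variable {X' X U : Scheme.{u}}

theorem pc_of_local {m : ℤ} {E : DCoh.D X}
    (h : ∀ x, ∃ (U : Scheme.{u}) (j : U ⟶ X) (_ : IsOpenImmersion j) (u : U),
      j u = x ∧ DCoh.IsPseudoCoherentD m ((RD j).obj E)) : DCoh.IsPseudoCoherentD m E := by
  rw [pc_iff_near]
  intro x
  obtain ⟨U, j, hj, u, hu, hP⟩ := h x
  obtain ⟨W, k, hk, w, hw, hPk⟩ := (pc_iff_near m _).1 hP u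
  haveI := hj
  haveI := hk
  exact ⟨W, k ≫ j, inferInstance, w, by rw [← hu, ← hw]; rfl, pcOn_push k j hPk⟩

/-- cohomology of flat pullbacks -/
theorem nonempty_hd_pb (f : X' ⟶ X) [Flat f] (E : DCoh.D X) (i : ℤ) :
    Nonempty (DCoh.HD ((PB f).obj E) i ≅ (Scheme.Modules.pullback f).obj (DCoh.HD E i)) := by
  haveI := preservesFiniteLimits_pullback f
  haveI : (Scheme.Modules.pullback f).IsLeftAdjoint :=
    (Scheme.Modules.pullbackPushforwardAdjunction f).isLeftAdjoint
  exact ⟨(homologyDerIso (Scheme.Modules.pullback f) i).app E⟩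

/-- the top cohomology is locally the image of a free module -/
theorem exists_top_cover (f : X' ⟶ X) [Flat f] [Surjective f] [LocallyOfFinitePresentation f] {E : DCoh.D X}
    (n : ℤ) (hz : IsAboveD (n + 1) E) (hpc : DCoh.IsPseudoCoherentD n ((PB f).obj E)) (x : X) :
    ∃ (U : Scheme.{u}) (j : U ⟶ X) (_ : IsOpenImmersion j) (u : U),
      j u = x ∧ ∃ (P : DCoh.D U) (α : P ⟶ (RD j).obj E),
        (∀ l, DCoh.IsPseudoCoherentD l P) ∧ MIsoD n α := by
  let F := (DerivedCategory.Q : _ ⥤ DCoh.D X).objPreimage E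
  let eF : DCoh.toD X F ≅ E := DerivedCategory.Q.objObjPreimageIso E
  haveI : (Scheme.Modules.pullback f).IsLeftAdjoint :=
    (Scheme.Modules.pullbackPushforwardAdjunction f).isLeftAdjoint
  have hFT : CohB1.IsFT ((Scheme.Modules.pullback f).obj (F.homology n)) := by
    have h1 := isFT_top n _ hpc fun i hi =>
      ((Scheme.Modules.pullback f).map_isZero (hz i (by lia))).of_iso (nonempty_hd_pb f E i).some
    exact QC.isFT_of_epi ((nonempty_hd_pb f E n).some ≪≫ (Scheme.Modules.pullback f).mapIso
      ((DerivedCategory.homologyFunctor _ n).mapIso eF.symm ≪≫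
        (DerivedCategory.homologyFunctorFactors X.Modules n).app F)).hom h1
  obtain ⟨U, j, hj, u, k, σ, hu, hσ⟩ := exists_free_nhd f (F.homologyπ n) hFT x
  obtain ⟨φ, hφ⟩ := exists_single_epi (Scheme.Modules.restrictFunctor j) F n σ hσ
  let K : CochainComplex U.Modules ℤ := (single U.Modules (ComplexShape.up ℤ) n).obj (FlatMod.freeMod U k)
  have hK : DCoh.IsStrictlyPerfect K := by
    refine ⟨⟨n, n, fun i hi => isZero_single_obj_X _ n _ i (by lia)⟩, fun i => ?_⟩
    by_cases hi : i = n
    · subst hi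
      exact isFinLocFree_of_iso' (singleObjXSelf (ComplexShape.up ℤ) i _).symm (isFinLocFree_freeMod k)
    · exact isFinLocFree_of_isZero (isZero_single_obj_X (ComplexShape.up ℤ) n _ i hi)
  let eR : DerivedCategory.Q.obj ((rC j).obj F) ≅ (RD j).obj E := (rdIso j F).symm ≪≫ (RD j).mapIso eF
  refine ⟨U, j, hj, u, hu, DerivedCategory.Q.obj K, DerivedCategory.Q.map φ ≫ eR.hom,
    pc_strictlyPerfect hK, ?_⟩
  refine mIsoD_comp ⟨fun i hi => ?_, ?_⟩ (mIsoD_of_isIso n eR.hom)
  · refine ⟨0, IsZero.eq_of_src ?_ _ _, IsZero.eq_of_src ?_ _ _⟩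
    · exact (isZero_single_obj_homology (ComplexShape.up ℤ) n _ i (by lia)).of_iso
        ((DerivedCategory.homologyFunctorFactors U.Modules i).app K)
    · exact ((Scheme.Modules.restrictFunctor j).map_isZero (hz i (by lia))).of_iso
        ((DerivedCategory.homologyFunctor _ i).mapIso eR ≪≫
          (homologyDerIso (Scheme.Modules.restrictFunctor j) i).app E)
  · exact ((MorphismProperty.epimorphisms U.Modules).arrow_mk_iso_iff
      (Arrow.isoMk ((DerivedCategory.homologyFunctorFactors U.Modules n).app _)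
        ((DerivedCategory.homologyFunctorFactors U.Modules n).app _)
        ((DerivedCategory.homologyFunctorFactors U.Modules n).hom.naturality φ).symm)).2 hφ

/-- pseudo-coherence of pullbacks passes to opens -/
theorem pc_pb_restrict (f : X' ⟶ X) [Flat f] (j : U ⟶ X) [IsOpenImmersion j] {m : ℤ} {E : DCoh.D X}
    (h : DCoh.IsPseudoCoherentD m ((PB f).obj E)) :
    DCoh.IsPseudoCoherentD m ((PB (pullback.snd f j)).obj ((RD j).obj E)) :=
  pc_of_iso ((pbRdIso j (pullback.fst f j) (pullback.snd f j) pullback.condition).app E)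
    (pc_restrict (pullback.fst f j) h)

/-- the induction -/
theorem pc_of_isAbove_pb (m : ℤ) : ∀ (k : ℕ) {X' X : Scheme.{u}} (f : X' ⟶ X) [Flat f] [Surjective f]
    [LocallyOfFinitePresentation f] (E : DCoh.D X), IsAboveD (m + k) E →
      DCoh.IsPseudoCoherentD m ((PB f).obj E) → DCoh.IsPseudoCoherentD m E := by
  intro k
  induction k with
  | zero => intro X' X f _ _ _ E hz _; exact pc_of_isAbove (isAboveD_mono (by lia) hz)
  | succ k ih =>
    intro X' X f _ _ _ E hz hpc
    refine pc_of_local fun x => ?_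
    obtain ⟨U, j, hj, u, hu, P, α, hP, hα⟩ := exists_top_cover f (m + k) (isAboveD_mono (by lia) hz)
      (pc_mono (by lia) hpc) x
    refine ⟨U, j, hj, u, hu, ?_⟩
    obtain ⟨C, b, c, hT⟩ := distinguished_cocone_triangle α
    have hC : IsAboveD (m + k) C := (mIsoD_iff (m + k) _ hT).1 hα
    let g := pullback.snd f j
    haveI := preservesFiniteLimits_pullback g
    haveI : (Scheme.Modules.pullback g).IsLeftAdjoint :=
      (Scheme.Modules.pullbackPushforwardAdjunction g).isLeftAdjoint
    have hCpc : DCoh.IsPseudoCoherentD m ((PB g).obj C) :=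
      pc_obj₃ _ ((PB g).map_distinguished _ hT) m (pc_pb g (hP (m + 1))) (pc_pb_restrict f j hpc)
    exact pc_obj₂ _ hT m (hP m) (ih g C hC hCpc)

/-- **Descent of pseudo-coherence.** -/
theorem pc_of_pb (f : X' ⟶ X) [Flat f] [Surjective f] [LocallyOfFinitePresentation f] {m : ℤ} (E : DCoh.D X)
    (h : DCoh.IsPseudoCoherentD m ((PB f).obj E)) : DCoh.IsPseudoCoherentD m E := by
  refine pc_of_local fun x => ?_
  obtain ⟨x', rfl⟩ := f.surjective x
  obtain ⟨U', j', hj', u', hu', S, α, hS, hα⟩ := (pc_iff_near m _).1 h x'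
  obtain ⟨⟨a, b, hab⟩, -⟩ := hS
  let N : ℕ := (max (b + 1) (m + 1) - m).toNat
  haveI := preservesFiniteLimits_pullback f
  let V : X.Opens := ⟨(j' ≫ f) '' Set.univ, (j' ≫ f).isOpenMap _ isOpen_univ⟩
  have hV : IsAboveD (m + N) ((RD V.ι).obj E) := fun i hi => by
    refine (IsZero.of_iso ?_ ((homologyDerIso (Scheme.Modules.restrictFunctor V.ι) i).app E))
    refine KFlat.isZero_of_stalks _ fun v => ?_
    obtain ⟨w, -, hw⟩ := v.2
    have h0 : IsZero ((DerivedCategory.homologyFunctor U'.Modules i).obj (DerivedCategory.Q.obj S)) := by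
      refine IsZero.of_iso ?_ ((DerivedCategory.homologyFunctorFactors U'.Modules i).app S)
      exact ((exactAt_iff' S (i - 1) i (i + 1) (by simp) (by simp)).2
        (ShortComplex.exact_of_isZero_X₂ _ (hab i (Or.inr (by lia))))).isZero_homology
    haveI := hα.1 i (by lia)
    have h1 : IsZero ((Scheme.Modules.restrictFunctor j').obj ((Scheme.Modules.pullback f).obj (DCoh.HD E i))) :=
      (h0.of_iso (asIso ((DerivedCategory.homologyFunctor _ i).map α)).symm).of_iso
        ((Scheme.Modules.restrictFunctor j').mapIso (nonempty_hd_pb f E i).some.symm ≪≫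
          ((homologyDerIso (Scheme.Modules.restrictFunctor j') i).app _).symm)
    have h2 : Subsingleton (((Scheme.Modules.pullback j').obj
        ((Scheme.Modules.pullback f).obj (DCoh.HD E i))).presheaf.stalk w) :=
      ModuleCat.subsingleton_of_isZero ((DerSch.stalkFunctor U' w).map_isZero
        (h1.of_iso ((Scheme.Modules.restrictFunctorIsoPullback j').app _).symm))
    have h3 : Subsingleton ((DCoh.HD E i).presheaf.stalk (V.ι v)) := by
      have := subsingleton_stalk_of_pullback f (j' w) (subsingleton_stalk_of_pullback j' w h2)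
      rw [show f (j' w) = V.ι v from hw] at this
      exact this
    haveI : Subsingleton ↥((DerSch.stalkFunctor (V : Scheme.{u}) v).obj
        ((Scheme.Modules.pullback V.ι).obj (DCoh.HD E i))) :=
      subsingleton_pullback_stalk V.ι v h3
    exact (ModuleCat.isZero_of_subsingleton _).of_iso ((DerSch.stalkFunctor _ v).mapIso
      ((Scheme.Modules.restrictFunctorIsoPullback V.ι).app (DCoh.HD E i)))
  exact ⟨_, V.ι, inferInstance, ⟨f x', ⟨u', trivial, by rw [Scheme.Hom.comp_apply, hu']⟩⟩, rfl,
    pc_of_isAbove_pb m N (pullback.snd f V.ι) _ hV (pc_pb_restrict f V.ι h)⟩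

theorem iff_lpull (f : X' ⟶ X) [Flat f] [Surjective f] [LocallyOfFinitePresentation f] [DCoh.HasLpull f]
    (E : DCoh.D X) (m : ℤ) :
    DCoh.IsPseudoCoherentD m E ↔ DCoh.IsPseudoCoherentD m ((DCoh.Lpull f).obj E) :=
  ⟨fun h => DerPerf.isPseudoCoherent_Lpull f m E h,
    fun h => pc_of_pb f E (pc_of_iso (nonempty_lpullFlat f E).some h)⟩

end Groth.Agent.PCFppf
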